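import Mathlib
import Groth.Prelude.Def_EGA4b
import Groth.Agent.GenFree.Modules

/-!
# Generic normal flatness
-/

set_option autoImplicit false
set_option linter.style.haveILetI false

universe u

namespace Groth.Agent.NormFlatLib

open Function Submodule PolynomialModule
open scoped Pointwise

section

variable {A : Type u} [CommRing A] (p : Ideal A) (M : Type u) [AddCommGroup M] [Module A M]

abbrev filt : p.Filtration M := p.stableFiltration (⊤ : Submodule A M)

/-- The Rees module of the adic filtration, as a type synonym. -/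
def RX : Type u := ↥(filt p M).submodule

noncomputable instance : AddCommGroup (RX p M) := inferInstanceAs (AddCommGroup ↥(filt p M).submodule)
noncomputable instance : Module (reesAlgebra p) (RX p M) := inferInstanceAs (Module (reesAlgebra p) ↥(filt p M).submodule)
noncomputable instance : Module A (RX p M) := inferInstanceAs (Module A ↥(filt p M).submodule)
instance : IsScalarTower A (reesAlgebra p) (RX p M) := inferInstanceAs (IsScalarTower A (reesAlgebra p) ↥(filt p M).submodule)

/-- The identity onto the synonym. -/
noncomputable def toRX : ↥(filt p M).submodule ≃ₗ[A] RX p M := LinearEquiv.refl A _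

/-- The kernel of the map from the Rees module onto the associated graded module. -/
noncomputable abbrev reesKer : Submodule (reesAlgebra p) (RX p M) :=
  (p.map (algebraMap A (reesAlgebra p))) • ⊤

theorem exists_retract (k : ℕ) :
    ∃ (i : (↥((filt p M).N k) ⧸ (p • (⊤ : Submodule A ↥((filt p M).N k)))) →ₗ[A] (RX p M ⧸ reesKer p M))
      (q : (RX p M ⧸ reesKer p M) →ₗ[A] (↥((filt p M).N k) ⧸ (p • (⊤ : Submodule A ↥((filt p M).N k))))),
      ∀ x, q (i x) = x := by
  classical
  let W := (filt p M).N k
  let X := RX p M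
  let K := reesKer p M
  let i₁ : W →ₗ[A] ↥(filt p M).submodule :=
    { toFun := fun x => ⟨single A k x.1, by
        rw [Ideal.Filtration.mem_submodule]
        intro j
        rw [coeff_single, Finsupp.single_apply]
        split_ifs with h
        · exact h ▸ x.2
        · exact zero_mem _⟩
      map_add' := fun x y => Subtype.ext (by simp)
      map_smul' := fun a x => Subtype.ext (by simp [PolynomialModule.single_smul]) }
  let q₁ : ↥(filt p M).submodule →ₗ[A] W :=
    { toFun := fun z => ⟨z.1.coeff k, (Ideal.Filtration.mem_submodule _ _).1 z.2 k⟩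
      map_add' := fun x y => Subtype.ext (by simp)
      map_smul' := fun a x => Subtype.ext rfl }
  let i₀ : W →ₗ[A] X := (toRX p M).toLinearMap.comp i₁
  let q₀ : X →ₗ[A] W := q₁.comp (toRX p M).symm.toLinearMap
  have hi : (p • (⊤ : Submodule A W)) ≤ (K.restrictScalars A).comap i₀ := by
    refine Submodule.smul_le.2 fun a ha x _ => ?_
    show i₀ (a • x) ∈ K
    rw [_root_.map_smul, ← algebraMap_smul (reesAlgebra p) a (i₀ x)]
    exact Submodule.smul_mem_smul (Ideal.mem_map_of_mem _ ha) trivial
  have hq : K.restrictScalars A ≤ (p • (⊤ : Submodule A W)).comap q₀ := by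
    intro z hz
    have hz' : z ∈ K := hz
    rw [Submodule.mem_comap]
    refine Submodule.smul_induction_on hz' (fun r hr x _ => ?_) fun x y hx hy => by
      rw [map_add]; exact add_mem hx hy
    clear hz hz'
    change r ∈ Ideal.span (algebraMap A (reesAlgebra p) '' (p : Set A)) at hr
    induction hr using Submodule.span_induction generalizing x with
    | mem r hr =>
      obtain ⟨a, ha, rfl⟩ := hr
      rw [algebraMap_smul, _root_.map_smul]
      exact Submodule.smul_mem_smul ha trivial
    | zero => rw [zero_smul, map_zero]; exact zero_mem _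
    | add r s _ _ h1 h2 => rw [add_smul, map_add]; exact add_mem (h1 x trivial) (h2 x trivial)
    | smul c r _ h1 => rw [smul_eq_mul, mul_comm, mul_smul]; exact h1 (c • x) trivial
  refine ⟨Submodule.mapQ _ (K.restrictScalars A) i₀ hi, Submodule.mapQ (K.restrictScalars A) _ q₀ hq, fun x => ?_⟩
  obtain ⟨x, rfl⟩ := Submodule.Quotient.mk_surjective _ x
  show Submodule.Quotient.mk (q₁ ((toRX p M).symm (toRX p M (i₁ x)))) = _
  rw [LinearEquiv.symm_apply_apply]
  congr 1
  exact Subtype.ext (by simp [i₁, q₁])

end

/-- The localization of a graded piece. -/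
theorem isLocalizedModule_piece {A : Type u} [CommRing A] (p : Ideal A) (M : Type u) [AddCommGroup M] [Module A M]
    (S : Submonoid A) (Af : Type u) [CommRing Af] [Algebra A Af] [IsLocalization S Af]
    (N : Type u) [AddCommGroup N] [Module A N] [Module Af N] [IsScalarTower A Af N] (g : M →ₗ[A] N)
    [IsLocalizedModule S g] (k : ℕ) :
    ∃ φ : (↥(p ^ k • (⊤ : Submodule A M)) ⧸ (p • (⊤ : Submodule A ↥(p ^ k • (⊤ : Submodule A M))))) →ₗ[A]
        (↥((p.map (algebraMap A Af)) ^ k • (⊤ : Submodule Af N)) ⧸ ((p.map (algebraMap A Af)) •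
          (⊤ : Submodule Af ↥((p.map (algebraMap A Af)) ^ k • (⊤ : Submodule Af N))))),
      IsLocalizedModule S φ := by
  let W := p ^ k • (⊤ : Submodule A M)
  let pf := p.map (algebraMap A Af)
  let W' := pf ^ k • (⊤ : Submodule Af N)
  have hideal : ∀ J : Ideal A, J.localized' Af S (Algebra.linearMap A Af) = J.map (algebraMap A Af) := fun J => by
    rw [Submodule.localized'_eq_span]; rfl
  have hW : W.localized' Af S g = W' := by
    show (p ^ k • (⊤ : Submodule A M)).localized' Af S g = _
    rw [Submodule.localized'_smul, hideal, Ideal.map_pow, Submodule.localized'_top]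
  let e := LinearEquiv.ofEq _ _ hW
  let ι := (W.toLocalized' Af S g)
  let P := (p • (⊤ : Submodule A W))
  have hP : P.localized' Af S ι = pf • (⊤ : Submodule Af (W.localized' Af S g)) := by
    show (p • (⊤ : Submodule A W)).localized' Af S ι = _
    exact (Submodule.localized'_smul Af S ι (⊤ : Submodule A W) p).trans
      (congrArg₂ (· • ·) (hideal p) (Submodule.localized'_top Af S ι))
  let ψ := P.toLocalizedQuotient' Af S ι
  let E : (↥(W.localized' Af S g) ⧸ P.localized' Af S ι) ≃ₗ[Af] (↥W' ⧸ (pf • (⊤ : Submodule Af W'))) :=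
    Submodule.Quotient.equiv _ _ e (by rw [hP, Submodule.map_smul'', Submodule.map_top, LinearEquiv.range])
  exact ⟨(E.restrictScalars A).toLinearMap.comp ψ, IsLocalizedModule.of_linearEquiv S ψ (E.restrictScalars A)⟩

/-- Generic normal flatness along an integral closed subscheme. -/
theorem exists_isNormallyFlat {A : Type u} [CommRing A] [IsNoetherianRing A] (p : Ideal A) [p.IsPrime]
    (M : Type u) [AddCommGroup M] [Module A M] [Module.Finite A M] :
    ∃ f : A, f ∉ p ∧ EGA4.IsNormallyFlat (p.map (algebraMap A (Localization.Away f)))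
      (LocalizedModule (Submonoid.powers f) M) := by
  classical
  let R := A ⧸ p
  let Rs := reesAlgebra p
  let J := p.map (algebraMap A Rs)
  let S := Rs ⧸ J
  letI : CommRing S := Ideal.Quotient.commRing J
  letI : Algebra R S := (Ideal.quotientMap J (algebraMap A Rs) Ideal.le_comap_map).toAlgebra
  haveI : IsScalarTower A R S := IsScalarTower.of_algebraMap_eq fun _ => rfl
  haveI : Algebra.FiniteType A Rs := (Subalgebra.fg_iff_finiteType _).1 (reesAlgebra.fg (IsNoetherian.noetherian p))
  haveI : Algebra.FiniteType A S := Algebra.FiniteType.of_surjective (Ideal.Quotient.mkₐ A J) Ideal.Quotient.mk_surjective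
  haveI : Algebra.FiniteType R S := Algebra.FiniteType.of_restrictScalars_finiteType A R S
  let X := RX p M
  haveI : Module.Finite Rs X := show Module.Finite Rs ↥(filt p M).submodule from Module.Finite.iff_fg.2
    ((Ideal.Filtration.submodule_fg_iff_stable (filt p M) fun i => IsNoetherian.noetherian _).2
      (Ideal.stableFiltration_stable p ⊤))
  let M' := X ⧸ reesKer p M
  haveI : Module.Finite Rs M' := Module.Finite.of_surjective (reesKer p M).mkQ (Submodule.mkQ_surjective _)
  letI : Module S M' := inferInstanceAs (Module (Rs ⧸ J) (X ⧸ (J • ⊤ : Submodule Rs X)))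
  haveI : IsScalarTower Rs S M' := IsScalarTower.of_algebraMap_smul fun r x => by
    obtain ⟨x, rfl⟩ := Submodule.Quotient.mk_surjective _ x
    rfl
  haveI : Module.Finite S M' := Module.Finite.of_restrictScalars_finite Rs S M'
  letI : Module R M' := Module.compHom M' (algebraMap R S)
  haveI : IsScalarTower R S M' := IsScalarTower.of_algebraMap_smul fun _ _ => rfl
  haveI : IsScalarTower A R M' := IsScalarTower.of_algebraMap_smul fun a x => by
    show (algebraMap R S (algebraMap A R a)) • x = a • x
    rw [← IsScalarTower.algebraMap_apply A R S, IsScalarTower.algebraMap_apply A Rs S, algebraMap_smul, algebraMap_smul]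
  obtain ⟨f, -, hf, hfree, -⟩ := GenFree.exists_generic (R := R) (S := S) (M := M') (one_ne_zero (α := R))
  obtain ⟨f₀, rfl⟩ := Ideal.Quotient.mk_surjective f
  refine ⟨f₀, fun h => hf (Ideal.Quotient.eq_zero_iff_mem.2 h), fun k => ?_⟩
  let T := Submonoid.powers (Ideal.Quotient.mk p f₀)
  have hT : Module.Flat R (LocalizedModule T M') :=
    GenFree.flat_localized_of_freeAt (R := R) (A := R) (Ideal.Quotient.mk p f₀) hfree T (Submonoid.mem_powers _)
      (LocalizedModule.mkLinearMap T M')
  obtain ⟨i, q, hqi⟩ := exists_retract p M k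
  obtain ⟨φ, hφ⟩ := isLocalizedModule_piece p M (Submonoid.powers f₀) (Localization.Away f₀)
    (LocalizedModule (Submonoid.powers f₀) M) (LocalizedModule.mkLinearMap _ M) k
  let Af := Localization.Away f₀
  let pf := p.map (algebraMap A Af)
  let G := ↥(p ^ k • (⊤ : Submodule A M)) ⧸ (p • (⊤ : Submodule A ↥(p ^ k • (⊤ : Submodule A M))))
  let G' := ↥(pf ^ k • (⊤ : Submodule Af (LocalizedModule (Submonoid.powers f₀) M))) ⧸
    (pf • (⊤ : Submodule Af ↥(pf ^ k • (⊤ : Submodule Af (LocalizedModule (Submonoid.powers f₀) M)))))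
  let Rf := Af ⧸ pf
  letI : Algebra R Rf := (Ideal.quotientMap pf (algebraMap A Af) Ideal.le_comap_map).toAlgebra
  haveI : IsScalarTower A R Rf := IsScalarTower.of_algebraMap_eq fun _ => rfl
  haveI : IsLocalization T Rf := by
    have h := IsLocalization.of_surjective (R := A) (S := Af) (M := Submonoid.powers f₀) (S' := Rf)
      (Ideal.Quotient.mk p) Ideal.Quotient.mk_surjective (Ideal.Quotient.mk pf) Ideal.Quotient.mk_surjective
      (RingHom.ext fun _ => rfl) (by rw [Ideal.mk_ker, Ideal.mk_ker])
    rwa [Submonoid.map_powers] at h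
  letI : Module R G' := Module.compHom G' (algebraMap R Rf)
  haveI : IsScalarTower R Rf G' := IsScalarTower.of_algebraMap_smul fun _ _ => rfl
  haveI : IsScalarTower A R G' := IsScalarTower.of_algebraMap_smul fun a x => by
    show (algebraMap R Rf (algebraMap A R a)) • x = a • x
    rw [← IsScalarTower.algebraMap_apply A R Rf, IsScalarTower.algebraMap_apply A Af Rf, algebraMap_smul, algebraMap_smul]
  haveI : IsScalarTower A R G := IsScalarTower.of_algebraMap_smul fun a x => rfl
  let φR : G →ₗ[R] G' := φ.extendScalarsOfSurjective Ideal.Quotient.mk_surjective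
  let iA : G →ₗ[A] M' := i
  let qA : M' →ₗ[A] G := q
  let i' : G →ₗ[R] M' := iA.extendScalarsOfSurjective Ideal.Quotient.mk_surjective
  let q' : M' →ₗ[R] G := qA.extendScalarsOfSurjective Ideal.Quotient.mk_surjective
  have hq' : ∀ x, q' (i' x) = x := fun x => hqi x
  haveI : IsLocalizedModule T φR := by
    refine ⟨fun x => ?_, fun y => ?_, fun {a b} hab => ?_⟩
    · obtain ⟨_, n, rfl⟩ := x
      have := IsLocalizedModule.map_units φ (⟨f₀ ^ n, n, rfl⟩ : Submonoid.powers f₀)
      rw [Module.End.isUnit_iff] at this ⊢
      convert! this using 1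
      funext y
      show (Ideal.Quotient.mk p f₀) ^ n • y = f₀ ^ n • y
      rw [← map_pow]
      exact algebraMap_smul R (f₀ ^ n) y
    · obtain ⟨⟨z, ⟨_, n, rfl⟩⟩, hz⟩ := IsLocalizedModule.surj (Submonoid.powers f₀) φ y
      refine ⟨⟨z, ⟨_, n, rfl⟩⟩, ?_⟩
      show (Ideal.Quotient.mk p f₀) ^ n • y = φ z
      rw [← map_pow, ← hz]
      exact algebraMap_smul R (f₀ ^ n) y
    · obtain ⟨⟨_, n, rfl⟩, hn⟩ := IsLocalizedModule.exists_of_eq (S := Submonoid.powers f₀) (f := φ) hab
      refine ⟨⟨_, n, rfl⟩, ?_⟩
      show (Ideal.Quotient.mk p f₀) ^ n • a = (Ideal.Quotient.mk p f₀) ^ n • b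
      rw [← map_pow]
      exact (algebraMap_smul R (f₀ ^ n) a).trans (hn.trans (algebraMap_smul R (f₀ ^ n) b).symm)
  have hG : Module.Flat R (LocalizedModule T G) :=
    Module.Flat.of_retract (LocalizedModule.map T i' |>.restrictScalars R) (LocalizedModule.map T q' |>.restrictScalars R)
      (by
        refine IsLocalizedModule.linearMap_ext T (LocalizedModule.mkLinearMap T G) (LocalizedModule.mkLinearMap T G) ?_
        refine LinearMap.ext fun x => ?_
        show LocalizedModule.map T q' (LocalizedModule.map T i' (LocalizedModule.mk x 1)) = LocalizedModule.mk x 1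
        rw [LocalizedModule.map_mk, LocalizedModule.map_mk]
        exact congrArg (fun z => LocalizedModule.mk z 1) (hq' x))
  haveI : Module.Flat R G' := Module.Flat.of_linearEquiv (IsLocalizedModule.iso T φR).symm
  exact (Module.flat_iff_of_isLocalization Rf T G').2 inferInstance

end Groth.Agent.NormFlatLib
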