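import Mathlib
import Groth.Prelude.Def_EGA4b
import Groth.Agent.Depth.Basic

/-!
# Depth and dimension of modules normally flat along a nilpotent ideal
-/

set_option autoImplicit false
set_option linter.style.haveILetI false

universe u

namespace Groth.Agent.NormFlatLib

open RingTheory.Sequence Function Submodule IsLocalRing
open scoped Pointwise

/-- Weak regularity of the middle term of a short exact sequence. -/
theorem isWeaklyRegular_of_exact {R : Type u} [CommRing R] (rs : List R) :
    ∀ {P X Q : Type u} [AddCommGroup P] [AddCommGroup X] [AddCommGroup Q] [Module R P] [Module R X] [Module R Q]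
      (f : P →ₗ[R] X) (g : X →ₗ[R] Q), Injective f → Exact f g → Surjective g →
      IsWeaklyRegular P rs → IsWeaklyRegular Q rs → IsWeaklyRegular X rs := by
  induction rs with
  | nil => intros; exact IsWeaklyRegular.nil R _
  | cons r rs ih =>
    intro P X Q _ _ _ _ _ _ f g hf hfg hg hP hQ
    obtain ⟨hP1, hP2⟩ := (isWeaklyRegular_cons_iff _ _ _).1 hP
    obtain ⟨hQ1, hQ2⟩ := (isWeaklyRegular_cons_iff _ _ _).1 hQ
    refine IsWeaklyRegular.cons (isSMulRegular_of_range_eq_ker hf hfg.linearMap_ker_eq.symm hP1 hQ1) ?_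
    refine ih (QuotSMulTop.map r f) (QuotSMulTop.map r g) ?_ (QuotSMulTop.map_exact r hfg hg)
      (QuotSMulTop.map_surjective r hg) hP2 hQ2
    rw [← LinearMap.ker_eq_bot]
    have h0 : Exact (0 : PUnit.{u + 1} →ₗ[R] P) f :=
      LinearMap.exact_iff.2 (by rw [LinearMap.ker_eq_bot.2 hf, LinearMap.range_zero])
    rw [(QuotSMulTop.map_first_exact_on_four_term_exact_of_isSMulRegular_last h0 hfg hQ1).linearMap_ker_eq]
    rw [map_zero, LinearMap.range_zero]

variable {R : Type u} [CommRing R] [IsLocalRing R]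

/-- A weakly regular sequence with a socle element in the quotient. -/
def SocSeq (M : Type u) [AddCommGroup M] [Module R M] (rs : List R) : Prop :=
  IsWeaklyRegular M rs ∧ ((∃ x : M, x ≠ 0) → ∃ x : M, x ∉ (Ideal.ofList rs • ⊤ : Submodule R M) ∧
    ∀ a ∈ maximalIdeal R, a • x ∈ Ideal.ofList rs • (⊤ : Submodule R M))

theorem socSeq_congr {M N : Type u} [AddCommGroup M] [Module R M] [AddCommGroup N] [Module R N] (e : M ≃ₗ[R] N)
    {rs : List R} (h : SocSeq M rs) : SocSeq N rs := by
  refine ⟨(e.isWeaklyRegular_congr rs).1 h.1, fun ⟨y, hy⟩ => ?_⟩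
  obtain ⟨x, hx, hx'⟩ := h.2 ⟨e.symm y, fun h0 => hy (e.symm.map_eq_zero_iff.1 h0)⟩
  have key : ∀ z, e z ∈ (Ideal.ofList rs • ⊤ : Submodule R N) ↔ z ∈ (Ideal.ofList rs • ⊤ : Submodule R M) := by
    intro z
    change z ∈ Submodule.comap e.toLinearMap (Ideal.ofList rs • ⊤ : Submodule R N) ↔ _
    rw [Submodule.comap_smul_top_of_surjective (Ideal.ofList rs) e.toLinearMap e.surjective, LinearEquiv.ker, sup_bot_eq]
  exact ⟨e x, fun hm => hx ((key x).1 hm), fun a ha => by rw [← map_smul, key]; exact hx' a ha⟩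

theorem socSeq_of_exact {P X Q : Type u} [AddCommGroup P] [AddCommGroup X] [AddCommGroup Q] [Module R P] [Module R X]
    [Module R Q] (f : P →ₗ[R] X) (g : X →ₗ[R] Q) (hf : Injective f) (hfg : Exact f g) (hg : Surjective g) {rs : List R}
    (hP : SocSeq P rs) (hQ : SocSeq Q rs) : SocSeq X rs := by
  refine ⟨isWeaklyRegular_of_exact rs f g hf hfg hg hP.1 hQ.1, fun hne => ?_⟩
  by_cases hP0 : ∃ x : P, x ≠ 0
  · obtain ⟨x, hx, hx'⟩ := hP.2 hP0
    have h0 : Exact (0 : PUnit.{u + 1} →ₗ[R] P) f :=
      LinearMap.exact_iff.2 (by rw [LinearMap.ker_eq_bot.2 hf, LinearMap.range_zero])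
    have h1 := map_first_exact_on_four_term_right_exact_of_isSMulRegular_last h0 hfg hg hQ.1
    refine ⟨f x, fun hm => hx ?_, fun a ha => ?_⟩
    · obtain ⟨z, hz⟩ := (h1 (Submodule.Quotient.mk x)).1 (by
        rw [Submodule.mapQ_apply, Submodule.Quotient.mk_eq_zero]; exact hm)
      obtain ⟨z, rfl⟩ := Submodule.Quotient.mk_surjective _ z
      rw [Submodule.mapQ_apply, LinearMap.zero_apply, Submodule.Quotient.eq, zero_sub, neg_mem_iff] at hz
      exact hz
    · rw [← map_smul]
      exact Submodule.smul_top_le_comap_smul_top (Ideal.ofList rs) f (hx' a ha)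
  · push Not at hP0
    have hinj : Injective g := by
      rw [← LinearMap.ker_eq_bot, hfg.linearMap_ker_eq, LinearMap.range_eq_bot]
      exact LinearMap.ext fun x => by rw [hP0 x, map_zero]; rfl
    exact (socSeq_congr (LinearEquiv.ofBijective g ⟨hinj, hg⟩).symm hQ).2 hne

theorem socSeq_of_subsingleton (M : Type u) [AddCommGroup M] [Module R M] [Subsingleton M] (rs : List R) :
    SocSeq M rs := by
  refine ⟨?_, fun ⟨x, hx⟩ => absurd (Subsingleton.elim x 0) hx⟩
  induction rs generalizing M with
  | nil => exact IsWeaklyRegular.nil R M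
  | cons r rs ih => exact IsWeaklyRegular.cons (fun a b _ => Subsingleton.elim a b) (ih _)

theorem socSeq_pi {M : Type u} [AddCommGroup M] [Module R M] {rs : List R} (h : SocSeq M rs) :
    ∀ n, SocSeq (Fin n → M) rs := by
  intro n
  induction n with
  | zero => exact socSeq_of_subsingleton _ rs
  | succ n ih =>
    let f : M →ₗ[R] (Fin (n + 1) → M) := LinearMap.single R (fun _ => M) 0
    let g : (Fin (n + 1) → M) →ₗ[R] (Fin n → M) := LinearMap.funLeft R M Fin.succ
    refine socSeq_of_exact f g (fun a b hab => Pi.single_injective (M := fun _ : Fin (n + 1) => M) 0 hab) (fun v => ?_) (fun w => ⟨Fin.cons 0 w, ?_⟩) h ih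
    · constructor
      · intro hv
        refine ⟨v 0, funext fun i => ?_⟩
        refine Fin.cases ?_ (fun j => ?_) i
        · simp [f]
        · simp only [f, LinearMap.coe_single, Pi.single_apply, Fin.succ_ne_zero, if_false]
          exact (congrFun hv j).symm
      · rintro ⟨a, rfl⟩
        exact funext fun j => by simp [f, g, Pi.single_apply, Fin.succ_ne_zero]
    · exact funext fun j => by simp [g]

theorem depth_eq_length [IsNoetherianRing R] {M : Type u} [AddCommGroup M] [Module R M] [Module.Finite R M]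
    [Nontrivial M] {rs : List R} (hmem : ∀ r ∈ rs, r ∈ maximalIdeal R) (h : SocSeq M rs) :
    LocCoh.depth R M = rs.length := by
  have hI : maximalIdeal R • (⊤ : Submodule R M) ≠ ⊤ :=
    (Submodule.top_ne_ideal_smul_of_le_jacobson_annihilator (IsLocalRing.maximalIdeal_le_jacobson _)).symm
  exact Depth.idealDepth_eq_length hI ⟨h.1, hmem, h.2 (exists_ne 0)⟩

theorem dim_depth_of_nilpotent {A : Type u} [CommRing A] [IsNoetherianRing A] [IsLocalRing A] (I : Ideal A)
    (hI : IsNilpotent I) (M : Type u) [AddCommGroup M] [Module A M] [Module.Finite A M] [Nontrivial M]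
    (hM : EGA4.IsNormallyFlat I M) :
    Module.supportDim A M = ringKrullDim (A ⧸ I) ∧ LocCoh.depth A M = LocCoh.depth A (A ⧸ I) := by
  classical
  obtain ⟨N, hN⟩ := hI
  have hIm : I ≤ maximalIdeal A := by
    refine IsLocalRing.le_maximalIdeal fun ht => ?_
    subst ht
    rw [Ideal.top_pow] at hN
    exact top_ne_bot (α := Ideal A) hN
  haveI : Nontrivial (A ⧸ I) := Ideal.Quotient.nontrivial_iff.2 fun ht =>
    (maximalIdeal.isMaximal A).ne_top (top_le_iff.1 (ht ▸ hIm))
  haveI : IsLocalRing (A ⧸ I) := IsLocalRing.of_surjective' (Ideal.Quotient.mk I) Ideal.Quotient.mk_surjective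
  let W : ℕ → Submodule A M := fun k => I ^ k • (⊤ : Submodule A M)
  let G : ℕ → Type u := fun k => ↥(W k) ⧸ (I • (⊤ : Submodule A ↥(W k)))
  haveI : ∀ k, Module.Finite A (W k) := fun k => Module.Finite.of_fg (IsNoetherian.noetherian _)
  have hfree : ∀ k, ∃ r, Nonempty (G k ≃ₗ[A] (Fin r → A ⧸ I)) := by
    intro k
    haveI := hM k
    haveI : Module.Finite (A ⧸ I) (G k) := Module.Finite.of_restrictScalars_finite A (A ⧸ I) (G k)
    haveI : Module.Free (A ⧸ I) (G k) := Module.free_of_flat_of_isLocalRing
    exact ⟨_, ⟨((Module.finBasis (A ⧸ I) (G k)).equivFun).restrictScalars A⟩⟩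
  have hA : maximalIdeal A • (⊤ : Submodule A (A ⧸ I)) ≠ ⊤ :=
    (Submodule.top_ne_ideal_smul_of_le_jacobson_annihilator (IsLocalRing.maximalIdeal_le_jacobson _)).symm
  obtain ⟨rs, hrs⟩ := Depth.exists_isMaxSeq (I := maximalIdeal A) hA
  have hbase : SocSeq (A ⧸ I) rs := ⟨hrs.1, fun _ => hrs.2.2⟩
  have hG : ∀ k, SocSeq (G k) rs := fun k => by
    obtain ⟨r, ⟨e⟩⟩ := hfree k
    exact socSeq_congr e.symm (socSeq_pi hbase r)
  have hW : ∀ j k, N ≤ k + j → SocSeq (W k) rs := by
    intro j
    induction j with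
    | zero =>
      intro k hk
      haveI : Subsingleton (W k) := by
        rw [Submodule.subsingleton_iff_eq_bot]
        have : I ^ k = ⊥ := le_bot_iff.1 ((Ideal.pow_le_pow_right hk).trans (le_of_eq hN))
        simp [W, this]
      exact socSeq_of_subsingleton _ rs
    | succ j ih =>
      intro k hk
      let P := (I • (⊤ : Submodule A ↥(W k)))
      have hP : P.map (W k).subtype = W (k + 1) := by
        show (I • ⊤ : Submodule A ↥(W k)).map (W k).subtype = _
        rw [Submodule.map_smul'', Submodule.map_subtype_top]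
        show I • (I ^ k • ⊤) = I ^ (k + 1) • (⊤ : Submodule A M)
        rw [← Submodule.mul_smul, ← pow_succ']
      have e : P ≃ₗ[A] W (k + 1) := (P.equivMapOfInjective _ (W k).injective_subtype).trans (LinearEquiv.ofEq _ _ hP)
      exact socSeq_of_exact P.subtype P.mkQ P.injective_subtype (LinearMap.exact_subtype_mkQ P) P.mkQ_surjective
        (socSeq_congr e.symm (ih (k + 1) (by omega))) (hG k)
  have hMsoc : SocSeq M rs := by
    have h0 : W 0 = ⊤ := by simp [W]
    exact socSeq_congr ((LinearEquiv.ofEq _ _ h0).trans Submodule.topEquiv) (hW N 0 (by omega))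
  refine ⟨?_, (depth_eq_length hrs.2.1 hMsoc).trans (depth_eq_length hrs.2.1 hbase).symm⟩
  -- the support
  have hsupp : Module.support A M = PrimeSpectrum.zeroLocus (I : Set A) := by
    refine Set.Subset.antisymm (fun p _ => ?_) fun p hp => ?_
    · intro x hx
      exact p.2.mem_of_pow_mem N (by
        have h1 : x ^ N ∈ I ^ N := Ideal.pow_mem_pow hx N
        rw [hN] at h1
        rw [show x ^ N = 0 from h1]
        exact zero_mem _)
    · obtain ⟨r, ⟨e⟩⟩ := hfree 0
      have hr : r ≠ 0 := by
        rintro rfl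
        haveI : Subsingleton (G 0) := e.toEquiv.subsingleton
        have h1 : (I • (⊤ : Submodule A ↥(W 0))) = ⊤ := Submodule.Quotient.subsingleton_iff.1 ‹Subsingleton (G 0)›
        haveI : Nontrivial (W 0) := by
          have h0 : W 0 = ⊤ := by simp [W]
          exact ((LinearEquiv.ofEq _ _ h0).trans Submodule.topEquiv).toEquiv.nontrivial
        exact (Submodule.top_ne_ideal_smul_of_le_jacobson_annihilator
          (hIm.trans (IsLocalRing.maximalIdeal_le_jacobson _))) h1.symm
      have h2 : p ∈ Module.support A (A ⧸ I) := by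
        rw [Module.support_eq_zeroLocus, Ideal.annihilator_quotient]
        exact hp
      have h3 : p ∈ Module.support A (G 0) := by
        rw [e.support_eq]
        exact Module.support_subset_of_injective (LinearMap.single A (fun _ : Fin r => A ⧸ I) ⟨0, Nat.pos_of_ne_zero hr⟩)
          (fun a b hab => Pi.single_injective (M := fun _ : Fin r => A ⧸ I) _ hab) h2
      have h4 := Module.support_subset_of_surjective (I • (⊤ : Submodule A ↥(W 0))).mkQ (Submodule.mkQ_surjective _) h3
      exact Module.support_subset_of_injective (W 0).subtype (W 0).injective_subtype h4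
  rw [Module.supportDim, ringKrullDim_quotient, hsupp]

end Groth.Agent.NormFlatLib
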